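import Groth.Agent.Lib.Flag27.More
import Groth.Agent.Lib.SepPts.Basic
import Groth.Agent.Lib.Rigidity.SmoothGroup
import Groth.Agent.Lib.Neutral.Connected
import Groth.Agent.Lib.RedSmooth.Basic
import Mathlib.AlgebraicGeometry.Group.Smooth

/-!
# Images of Borel and parabolic subgroups over arbitrary fields
-/

universe u
set_option autoImplicit false
set_option linter.style.haveILetI false
set_option backward.isDefEq.respectTransparency false
open CategoryTheory CategoryTheory.Limits MonoidalCategory CartesianMonoidalCategory MonObj GrpObj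
open AlgebraicGeometry TopologicalSpace

namespace GrothLib.ImgBorel19

variable {k : Type u} [Field k]

/-- A reduced group onto which a smooth scheme surjects is smooth. -/
theorem smooth_of_surjective_hom {B B' : Over (Spec (CommRingCat.of k))} [GrpObj B'] [Smooth B.hom]
    [LocallyOfFiniteType B'.hom] [IsReduced B'.left] (p : B ⟶ B') [Surjective p.left] : Smooth B'.hom := by
  haveI : GeometricallyReduced B.hom := GrothLib.Rigidity.geometricallyReduced_of_smooth B.hom
  haveI : GeometricallyReduced B'.hom := by
    refine GrothLib.SepPts.geometricallyReduced_of_dense B'.hom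
      (T := {ζ | GrothLib.SepPts.IsSepPt B'.hom ζ}) ?_ fun ζ h => h
    rw [dense_iff_inter_open]
    rintro U hU ⟨y, hy⟩
    obtain ⟨x, rfl⟩ := p.left.surjective y
    obtain ⟨gpt, hgpt⟩ := QuasiSober.sober (isIrreducible_irreducibleComponent (x := x)) isClosed_irreducibleComponent
    have hmax : ∀ w, w ⤳ gpt → w = gpt := fun w hw => by
      have hle : closure {gpt} ⊆ closure {w} := specializes_iff_closure_subset.mp hw
      rw [hgpt.def] at hle
      exact (IsGenericPoint.eq (show IsGenericPoint w (irreducibleComponent x) from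
        le_antisymm ((irreducibleComponent_property x).2.2 _ isPreirreducible_singleton.closure hle ▸ le_refl _) hle) hgpt)
    obtain ⟨k', _, _, hgr, z, hz, hmem⟩ := GrothLib.SepPts.isSepPt_of_maximal B.hom hmax
    refine ⟨p.left.base gpt, (hgpt.specializes mem_irreducibleComponent).map p.left.continuous |>.mem_open hU hy,
      k', inferInstance, inferInstance, hgr, z ≫ p.left, ?_, ?_⟩
    · rw [Category.assoc, Over.w p, hz]
    · obtain ⟨t, rfl⟩ := hmem
      exact ⟨t, rfl⟩
  haveI : GrpObj (Over.mk B'.hom) := inferInstanceAs (GrpObj B')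
  exact smooth_of_grpObj B'.hom

section Closed

variable [IsAlgClosed k] {G Q : Over (Spec (CommRingCat.of k))} [GrpObj G] [GrpObj Q] [IsAffine G.left]
  [Smooth G.hom] [ConnectedSpace G.left] [IsAffine Q.left] [Smooth Q.hom] [ConnectedSpace Q.left]
  (q : G ⟶ Q) [IsMonHom q] [Surjective q.left]

/-- Two reduced closed subobjects with the same range are isomorphic over the target. -/
theorem exists_iso_of_range_eq {A B : Over (Spec (CommRingCat.of k))} (i : A ⟶ Q) (j : B ⟶ Q)
    [IsClosedImmersion i.left] [IsClosedImmersion j.left] [IsReduced A.left] [IsReduced B.left]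
    (h : Set.range i.left.base = Set.range j.left.base) : ∃ e : A ≅ B, e.hom ≫ j = i := by
  obtain ⟨f₀, hf₀⟩ := GrothLib.AlgSp.exists_lift_of_range_subset i.left j.left h.le
  obtain ⟨g₀, hg₀⟩ := GrothLib.AlgSp.exists_lift_of_range_subset j.left i.left h.ge
  haveI : Mono i.left := IsPreimmersion.instMonoScheme i.left
  haveI : Mono j.left := IsPreimmersion.instMonoScheme j.left
  haveI : Mono i := Over.mono_of_mono_left i
  haveI : Mono j := Over.mono_of_mono_left j
  let f : A ⟶ B := Over.homMk f₀ (by rw [← Over.w j, reassoc_of% hf₀, Over.w])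
  let g : B ⟶ A := Over.homMk g₀ (by rw [← Over.w i, reassoc_of% hg₀, Over.w])
  have hf : f ≫ j = i := Over.OverMorphism.ext hf₀
  have hg : g ≫ i = j := Over.OverMorphism.ext hg₀
  exact ⟨⟨f, g, by rw [← cancel_mono i, Category.assoc, hg, hf, Category.id_comp],
    by rw [← cancel_mono j, Category.assoc, hf, hg, Category.id_comp]⟩, hf⟩

/-- Borel subgroups do not depend on the presentation. -/
theorem isBorelOver_of_iso {A B : Over (Spec (CommRingCat.of k))} [GrpObj A] [GrpObj B] (i : A ⟶ Q) [IsMonHom i]
    (j : B ⟶ Q) (e : A ≅ B) (he : e.hom ≫ j = i) (hj : Red.IsBorelOver k j) : Red.IsBorelOver k i := by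
  obtain ⟨hjm, hjc, hsm, hc, hs, hmax⟩ := hj
  haveI := hjm; haveI := hjc; haveI := hsm; haveI := hc
  haveI : IsIso e.hom.left := inferInstanceAs (IsIso ((Over.forget _).map e.hom))
  haveI : IsClosedImmersion i.left := by rw [← he, Over.comp_left]; infer_instance
  haveI : Smooth A.hom := by rw [← Over.w e.hom]; infer_instance
  haveI : ConnectedSpace A.left :=
    (inv e.hom.left).surjective.connectedSpace (inv e.hom.left).continuous
  haveI : Mono i.left := IsPreimmersion.instMonoScheme i.left
  haveI : Mono j.left := IsPreimmersion.instMonoScheme j.left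
  haveI : Mono i := Over.mono_of_mono_left i
  haveI : Mono j := Over.mono_of_mono_left j
  haveI : IsMonHom e.hom := by
    refine ⟨?_, ?_⟩
    · rw [← cancel_mono j, Category.assoc, he, IsMonHom.one_hom, IsMonHom.one_hom]
    · rw [← cancel_mono j, Category.assoc, he, IsMonHom.mul_hom, Category.assoc, IsMonHom.mul_hom,
        ← Category.assoc, MonoidalCategory.tensorHom_comp_tensorHom, he]
  refine ⟨inferInstance, inferInstance, inferInstance, inferInstance, ?_, ?_⟩
  · refine hs.imp fun n hn X => ?_
    let ψ : (X ⟶ A) →* (X ⟶ B) :=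
      { toFun := fun x => x ≫ e.hom, map_one' := MonObj.one_comp e.hom, map_mul' := fun a b => MonObj.mul_comp a b e.hom }
    have hψ : Function.Injective ψ := fun a b h => (cancel_mono e.hom).mp h
    have h1 := map_derivedSeries_le_derivedSeries ψ n
    rw [hn X, le_bot_iff, (Subgroup.map_eq_bot_iff_of_injective _ hψ)] at h1
    exact h1
  · intro B₂ _ i₂ _ f hi₂ hsm₂ hc₂ hs₂ hf
    haveI := hmax B₂ i₂ (e.inv ≫ f) hi₂ hsm₂ hc₂ hs₂ (by rw [Category.assoc, hf, ← he, Iso.inv_hom_id_assoc])
    rw [show f = e.hom ≫ e.inv ≫ f by rw [Iso.hom_inv_id_assoc]]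
    infer_instance

/-- Over an algebraically closed field a smooth image of a Borel subgroup is a Borel subgroup. -/
theorem isBorelOver_image {B B' : Over (Spec (CommRingCat.of k))} [GrpObj B] [GrpObj B'] {i : B ⟶ G}
    (hB : Red.IsBorelOver k i) (i' : B' ⟶ Q) [IsMonHom i'] [IsClosedImmersion i'.left] [Smooth B'.hom]
    (p : B ⟶ B') [Surjective p.left] (hp : p ≫ i' = i ≫ q) : Red.IsBorelOver k i' := by
  obtain ⟨B₂, _, i₂, p₂, hB₂, hs₂, hp₂, -⟩ := GrothLib.Flag27.exists_image_borel q hB
  haveI := hB₂.1; haveI := hB₂.2.1; haveI := hB₂.2.2.1; haveI := hs₂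
  haveI : IsReduced B'.left := GrothLib.RedSmooth.isReduced_of_smooth B'.hom
  haveI : IsReduced B₂.left := GrothLib.RedSmooth.isReduced_of_smooth B₂.hom
  have hr : ∀ {C : Over (Spec (CommRingCat.of k))} (j : C ⟶ Q) (r : B ⟶ C) [Surjective r.left],
      r ≫ j = i ≫ q → Set.range j.left.base = Set.range (i ≫ q).left.base := by
    intro C j r _ h
    rw [← h, Over.comp_left]
    exact (r.left.surjective.range_comp _).symm
  obtain ⟨e, he⟩ := exists_iso_of_range_eq i' i₂ ((hr i' p hp).trans (hr i₂ p₂ hp₂).symm)
  exact isBorelOver_of_iso i' i₂ e he hB₂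

end Closed

/-- Base change of a connected group over a field is connected. -/
theorem connectedSpace_bc (G : Over (Spec (CommRingCat.of k))) [GrpObj G] [ConnectedSpace G.left]
    {K : Type u} [Field K] (t : Spec (CommRingCat.of K) ⟶ Spec (CommRingCat.of k)) :
    ConnectedSpace ↥((Over.pullback t).obj G).left := by
  haveI := GrothLib.Neutral.geometricallyConnected_of_point (k := k) G.hom η[G].left (Over.w η[G])
  haveI : GeometricallyConnected (pullback.snd G.hom t) := MorphismProperty.pullback_snd _ _ ‹_›
  haveI : Nonempty ↥(pullback G.hom t) := by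
    obtain ⟨w, -, -⟩ := Scheme.Pullback.exists_preimage_pullback (f := G.hom) (g := t)
      (η[G].left (IsLocalRing.closedPoint _)) (IsLocalRing.closedPoint K)
      (Subsingleton.elim (α := ↥(Spec (CommRingCat.of k))) _ _)
    exact ⟨w⟩
  exact GeometricallyConnected.connectedSpace_of_subsingleton (f := pullback.snd G.hom t)

end GrothLib.ImgBorel19
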